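import Groth.Prelude.Def_HopfRep
import Mathlib.RingTheory.Flat.FaithfullyFlat.Basic
import Mathlib.RingTheory.Finiteness.Descent
import Mathlib.LinearAlgebra.TensorProduct.RightExactness
import Mathlib.LinearAlgebra.TensorProduct.Tower
import Mathlib.Algebra.Module.Projective

/-!
# The subcomodule generated by a submodule

`C` is an `A`-coalgebra and `A'` a faithfully flat `A`-algebra with `A' ⊗ C` projective over `A'`.
For `φ : C →ₗ[A] A'` we have the slice `v ⊗ c ↦ φ c ⊗ v`. The `A'`-span of the slices of the coaction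
of `M` is the extension of scalars of a submodule `U` of `V`, which is the smallest subcomodule
containing `M`.
-/

universe u

open TensorProduct

namespace Groth.Agent.SubcomodGenLib

variable {A : Type u} [CommRing A] {C : Type u} [AddCommGroup C] [Module A C]
  {V : Type u} [AddCommGroup V] [Module A V] (A' : Type u) [CommRing A'] [Algebra A A']

/-- `v ⊗ c ↦ φ c ⊗ v`. -/
noncomputable def sl (φ : C →ₗ[A] A') : V ⊗[A] C →ₗ[A] A' ⊗[A] V :=
  (TensorProduct.comm A V A').toLinearMap ∘ₗ φ.lTensor V

@[simp] theorem sl_tmul (φ : C →ₗ[A] A') (v : V) (c : C) : sl A' φ (v ⊗ₜ c) = φ c ⊗ₜ v := by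
  simp [sl]

theorem sl_mem_baseChange (φ : C →ₗ[A] A') (W : Submodule A V) {y : V ⊗[A] C}
    (hy : y ∈ LinearMap.range (W.subtype.rTensor C)) : sl A' φ y ∈ W.baseChange A' := by
  obtain ⟨z, rfl⟩ := hy
  induction z using TensorProduct.induction_on with
  | zero => simp
  | tmul w c =>
    rw [LinearMap.rTensor_tmul, sl_tmul]
    exact Submodule.tmul_mem_baseChange_of_mem _ w.2
  | add p q hp hq => rw [map_add, map_add]; exact Submodule.add_mem _ hp hq

theorem mem_of_one_tmul_mem [Module.FaithfullyFlat A A'] (W : Submodule A V) {v : V}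
    (h : (1 : A') ⊗ₜ[A] v ∈ W.baseChange A') : v ∈ W := by
  obtain ⟨t, ht⟩ := h
  have h0 : (1 : A') ⊗ₜ[A] W.mkQ v = 0 := by
    rw [← LinearMap.lTensor_tmul, ← ht]
    clear ht
    induction t using TensorProduct.induction_on with
    | zero => simp
    | tmul a w => simp [(Submodule.Quotient.mk_eq_zero W).mpr w.2]
    | add p q hp hq => simp only [map_add, hp, hq, add_zero]
  rw [Module.FaithfullyFlat.one_tmul_eq_zero_iff] at h0
  exact (Submodule.Quotient.mk_eq_zero W).mp h0

section Dual

variable (s : A' ⊗[A] C →ₗ[A'] (A' ⊗[A] C →₀ A'))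

/-- The coordinate form attached to an index. -/
noncomputable def psi (f : A' ⊗[A] C) : C →ₗ[A] A' :=
  ((Finsupp.lapply f).comp s).restrictScalars A ∘ₗ TensorProduct.mk A A' C 1

theorem psi_apply (f : A' ⊗[A] C) (c : C) : psi A' s f c = s (1 ⊗ₜ c) f := rfl

/-- All coordinate slices at once. -/
noncomputable def coords : V ⊗[A] C →ₗ[A] (A' ⊗[A] C →₀ A' ⊗[A] V) :=
  TensorProduct.lift (LinearMap.mk₂ A
    (fun v c => Finsupp.mapRange.linearMap ((TensorProduct.mk A A' V).flip v) (s (1 ⊗ₜ c)))
    (fun v v' c => by ext; simp [TensorProduct.tmul_add])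
    (fun a v c => by ext; simp [TensorProduct.tmul_smul])
    (fun v c c' => by
      ext; simp [TensorProduct.tmul_add, TensorProduct.add_tmul])
    (fun a v c => by
      ext; simp [TensorProduct.tmul_smul, LinearMap.map_smul_of_tower, ← TensorProduct.smul_tmul']))

theorem coords_apply (x : V ⊗[A] C) (f : A' ⊗[A] C) :
    coords A' s x f = sl A' (psi A' s f) x := by
  induction x using TensorProduct.induction_on with
  | zero => simp
  | tmul v c => simp [coords, psi_apply]
  | add p q hp hq => simp only [map_add, Finsupp.add_apply, hp, hq]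

/-- Any `A`-bilinear pairing that is balanced over `A'` sees a tensor through its coordinates. -/
theorem sum_coords (hs : Finsupp.linearCombination A' id ∘ₗ s = LinearMap.id)
    {N : Type*} [AddCommGroup N] [Module A N]
    (B : A' ⊗[A] C →ₗ[A] A' ⊗[A] V →ₗ[A] N)
    (hB : ∀ (f : A' ⊗[A] C) (a : A') (v : V), B f (a ⊗ₜ v) = B (a • f) (1 ⊗ₜ v))
    (x : V ⊗[A] C) :
    Finsupp.lsum A (fun f => B f) (coords A' s x) =
      TensorProduct.lift (LinearMap.mk₂ A (fun v c => B (1 ⊗ₜ c) (1 ⊗ₜ v))
        (fun v v' c => by simp [TensorProduct.tmul_add])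
        (fun a v c => by simp [TensorProduct.tmul_smul])
        (fun v c c' => by simp [TensorProduct.tmul_add])
        (fun a v c => by simp [TensorProduct.tmul_smul])) x := by
  induction x using TensorProduct.induction_on with
  | zero => simp
  | tmul v c =>
    have h := LinearMap.congr_fun hs (1 ⊗ₜ[A] c)
    simp only [LinearMap.comp_apply, Finsupp.linearCombination_apply, LinearMap.id_apply, id] at h
    rw [TensorProduct.lift.tmul, LinearMap.mk₂_apply, coords, TensorProduct.lift.tmul,
      LinearMap.mk₂_apply, Finsupp.mapRange.linearMap_apply, Finsupp.lsum_apply,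
      Finsupp.sum_mapRange_index (fun f => map_zero (B f))]
    conv_rhs => rw [← h]
    rw [Finsupp.sum, Finsupp.sum, map_sum, LinearMap.sum_apply]
    exact Finset.sum_congr rfl fun f _ => hB f _ v
  | add p q hp hq => simp only [map_add, hp, hq]

end Dual

/-- The `A'`-span of all slices of a set of tensors. -/
noncomputable def content (X : Submodule A (V ⊗[A] C)) : Submodule A' (A' ⊗[A] V) :=
  Submodule.span A' {w | ∃ φ : C →ₗ[A] A', ∃ x ∈ X, sl A' φ x = w}

theorem sl_mem_content {X : Submodule A (V ⊗[A] C)} {x : V ⊗[A] C} (hx : x ∈ X) (φ : C →ₗ[A] A') :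
    sl A' φ x ∈ content A' X :=
  Submodule.subset_span ⟨φ, x, hx, rfl⟩

/-- The submodule of `V` below the content. -/
noncomputable def hull (X : Submodule A (V ⊗[A] C)) : Submodule A V :=
  LinearMap.ker (((content A' X).restrictScalars A).mkQ ∘ₗ TensorProduct.mk A A' V 1)

theorem mem_hull {X : Submodule A (V ⊗[A] C)} {v : V} :
    v ∈ hull A' X ↔ (1 : A') ⊗ₜ[A] v ∈ content A' X := by
  simp [hull]

variable [Module.Projective A' (A' ⊗[A] C)]

theorem baseChange_hull [Module.Flat A A'] (X : Submodule A (V ⊗[A] C)) :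
    (hull A' X).baseChange A' = content A' X := by
  obtain ⟨s, hs⟩ := Module.projective_def'.mp ‹Module.Projective A' (A' ⊗[A] C)›
  apply le_antisymm
  · rw [Submodule.baseChange_eq_span, Submodule.span_le]
    rintro _ ⟨v, hv, rfl⟩
    exact (mem_hull A').mp hv
  refine Submodule.span_le.mpr ?_
  rintro _ ⟨φ, x, hx, rfl⟩
  let M' := (content A' X).restrictScalars A
  let G : A' ⊗[A] C →ₗ[A] A' ⊗[A] A' :=
    (TensorProduct.comm A A' A').toLinearMap ∘ₗ φ.lTensor A'
  let H : A' ⊗[A] A' →ₗ[A] A' ⊗[A] V →ₗ[A] A' ⊗[A] (A' ⊗[A] V) :=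
    TensorProduct.lift (LinearMap.mk₂ A
      (fun p q => (TensorProduct.mk A A' _ p) ∘ₗ (Algebra.lsmul A A (A' ⊗[A] V) q))
      (fun p p' q => by ext; simp [TensorProduct.add_tmul])
      (fun a p q => by ext; simp [TensorProduct.smul_tmul'])
      (fun p q q' => by ext; simp [TensorProduct.tmul_add, add_smul])
      (fun a p q => by ext; simp [TensorProduct.tmul_smul]))
  have hH : ∀ (g : A' ⊗[A] A') (w : A' ⊗[A] V), w ∈ content A' X →
      LinearMap.lTensor A' M'.mkQ (H g w) = 0 := by
    intro g w hw
    induction g using TensorProduct.induction_on with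
    | zero => simp
    | tmul p q =>
      have hq : (Submodule.Quotient.mk (q • w) : (A' ⊗[A] V) ⧸ M') = 0 :=
        (Submodule.Quotient.mk_eq_zero M').mpr ((content A' X).smul_mem q hw)
      simp [H, hq]
    | add p q hp hq => simp only [map_add, LinearMap.add_apply, hp, hq, add_zero]
  have hbal : ∀ (f : A' ⊗[A] C) (a : A') (v : V),
      (H ∘ₗ G) f (a ⊗ₜ v) = (H ∘ₗ G) (a • f) (1 ⊗ₜ v) := by
    intro f a v
    induction f using TensorProduct.induction_on with
    | zero => simp
    | tmul b d => simp [H, G, TensorProduct.smul_tmul', smul_eq_mul, mul_comm]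
    | add p q hp hq => simp only [smul_add, map_add, LinearMap.add_apply, hp, hq]
  have hkey : ∀ y : V ⊗[A] C, Finsupp.lsum A (fun f => (H ∘ₗ G) f) (coords A' s y) =
      LinearMap.lTensor A' (TensorProduct.mk A A' V 1) (sl A' φ y) := by
    intro y
    rw [sum_coords A' s hs _ hbal]
    induction y using TensorProduct.induction_on with
    | zero => simp
    | tmul v c => simp [H, G]
    | add p q hp hq => simp only [map_add, hp, hq]
  have h0 : LinearMap.lTensor A' (M'.mkQ ∘ₗ TensorProduct.mk A A' V 1) (sl A' φ x) = 0 := by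
    rw [LinearMap.lTensor_comp, LinearMap.comp_apply, ← hkey, Finsupp.lsum_apply, map_finsuppSum]
    refine Finset.sum_eq_zero fun f _ => hH _ _ ?_
    rw [coords_apply]
    exact sl_mem_content A' hx _
  obtain ⟨t, ht⟩ := (Module.Flat.lTensor_exact A'
    (LinearMap.exact_subtype_ker_map (M'.mkQ ∘ₗ TensorProduct.mk A A' V 1)) _).mp h0
  exact ⟨t, ht⟩

theorem mem_range_rTensor_hull [Module.FaithfullyFlat A A'] (X : Submodule A (V ⊗[A] C))
    (y : V ⊗[A] C) (hy : ∀ φ : C →ₗ[A] A', sl A' φ y ∈ content A' X) :
    y ∈ LinearMap.range ((hull A' X).subtype.rTensor C) := by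
  obtain ⟨s, hs⟩ := Module.projective_def'.mp ‹Module.Projective A' (A' ⊗[A] C)›
  set U := hull A' X with hU
  let B : A' ⊗[A] C →ₗ[A] A' ⊗[A] V →ₗ[A] A' ⊗[A] (V ⊗[A] C) :=
    TensorProduct.lift (LinearMap.mk₂ A
      (fun b d => TensorProduct.map (LinearMap.mulLeft A b) ((TensorProduct.mk A V C).flip d))
      (fun p p' q => by ext; simp [add_mul, TensorProduct.add_tmul])
      (fun a p q => by ext; simp [TensorProduct.smul_tmul'])
      (fun p q q' => by ext; simp [TensorProduct.tmul_add])
      (fun a p q => by ext; simp [TensorProduct.tmul_smul]))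
  have hbal : ∀ (f : A' ⊗[A] C) (a : A') (v : V), B f (a ⊗ₜ v) = B (a • f) (1 ⊗ₜ v) := by
    intro f a v
    induction f using TensorProduct.induction_on with
    | zero => simp
    | tmul b d => simp [B, TensorProduct.smul_tmul', smul_eq_mul, mul_comm]
    | add p q hp hq => simp only [smul_add, map_add, LinearMap.add_apply, hp, hq]
  have hkey : ∀ z : V ⊗[A] C, Finsupp.lsum A (fun f => B f) (coords A' s z) = 1 ⊗ₜ z := by
    intro z
    rw [sum_coords A' s hs _ hbal]
    induction z using TensorProduct.induction_on with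
    | zero => simp
    | tmul v c => simp [B]
    | add p q hp hq => simp only [map_add, TensorProduct.tmul_add, hp, hq]
  have hzero : ∀ (f : A' ⊗[A] C) (w : A' ⊗[A] V), w ∈ U.baseChange A' →
      LinearMap.lTensor A' (U.mkQ.rTensor C) (B f w) = 0 := by
    rintro f _ ⟨t, rfl⟩
    induction f using TensorProduct.induction_on with
    | zero => simp
    | tmul b d =>
      induction t using TensorProduct.induction_on with
      | zero => simp
      | tmul a u => simp [B, (Submodule.Quotient.mk_eq_zero U).mpr u.2]
      | add p q hp hq => simp only [map_add, hp, hq, add_zero]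
    | add p q hp hq => simp only [map_add, LinearMap.add_apply, hp, hq, add_zero]
  have h0 : (1 : A') ⊗ₜ[A] (U.mkQ.rTensor C y) = 0 := by
    rw [← LinearMap.lTensor_tmul, ← hkey y, Finsupp.lsum_apply, map_finsuppSum]
    refine Finset.sum_eq_zero fun f _ => hzero f _ ?_
    rw [coords_apply, hU, baseChange_hull]
    exact hy _
  rw [Module.FaithfullyFlat.one_tmul_eq_zero_iff] at h0
  exact (rTensor_exact C (LinearMap.exact_subtype_mkQ U) U.mkQ_surjective y).mp h0

section Comodule

variable [Coalgebra A C] [HopfRep.Comod A C V]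

/-- The slice of the coaction, extended `A'`-linearly. -/
noncomputable def act (ψ : C →ₗ[A] A') : A' ⊗[A] V →ₗ[A'] A' ⊗[A] V :=
  TensorProduct.AlgebraTensorModule.lift
    (LinearMap.toSpanSingleton A' _ (sl A' ψ ∘ₗ HopfRep.Comod.coact (k := A) (A := C)))

omit [Module.Projective A' (A' ⊗[A] C)] in
@[simp] theorem act_tmul (ψ : C →ₗ[A] A') (a : A') (v : V) :
    act A' ψ (a ⊗ₜ v) = a • sl A' ψ (HopfRep.Comod.coact (k := A) (A := C) v) := by
  simp [act]

omit [Module.Projective A' (A' ⊗[A] C)] in
theorem act_sl (ψ φ : C →ₗ[A] A') (m : V) :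
    act A' ψ (sl A' φ (HopfRep.Comod.coact (k := A) (A := C) m)) =
      sl A' (LinearMap.mul' A A' ∘ₗ TensorProduct.map ψ φ ∘ₗ CoalgebraStruct.comul)
        (HopfRep.Comod.coact (k := A) (A := C) m) := by
  have h := LinearMap.congr_fun (HopfRep.Comod.coassoc (k := A) (A := C) (V := V)) m
  simp only [LinearMap.comp_apply, LinearEquiv.coe_coe] at h
  let G : V ⊗[A] (C ⊗[A] C) →ₗ[A] A' ⊗[A] V :=
    (TensorProduct.comm A V A').toLinearMap ∘ₗ
      (LinearMap.mul' A A' ∘ₗ TensorProduct.map ψ φ).lTensor V
  have key : ∀ z : V ⊗[A] C, act A' ψ (sl A' φ z) =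
      G (TensorProduct.assoc A V C C ((HopfRep.Comod.coact (k := A) (A := C)).rTensor C z)) := by
    intro z
    induction z using TensorProduct.induction_on with
    | zero => simp
    | tmul v c =>
      rw [sl_tmul, act_tmul, LinearMap.rTensor_tmul]
      generalize HopfRep.Comod.coact (k := A) (A := C) v = x
      induction x using TensorProduct.induction_on with
      | zero => simp
      | tmul v' c' => simp [G, TensorProduct.smul_tmul', smul_eq_mul, mul_comm]
      | add p q hp hq => simp only [map_add, smul_add, TensorProduct.add_tmul, hp, hq]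
    | add p q hp hq => simp only [map_add, hp, hq]
  rw [key, h]
  simp only [G, sl, LinearMap.comp_apply, LinearEquiv.coe_coe]
  rw [← LinearMap.lTensor_comp_apply, LinearMap.comp_assoc]

variable (C)

/-- The generated subcomodule. -/
noncomputable def gen (M : Submodule A V) : Submodule A V :=
  hull A' (M.map (HopfRep.Comod.coact (k := A) (A := C)))

variable {C} [Module.FaithfullyFlat A A']

omit [Module.Projective A' (A' ⊗[A] C)] [Module.FaithfullyFlat A A'] in
theorem le_gen (M : Submodule A V) : M ≤ gen C A' M := by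
  intro m hm
  rw [gen, mem_hull]
  convert sl_mem_content A' (Submodule.mem_map_of_mem (f := HopfRep.Comod.coact (k := A) (A := C)) hm)
    (Algebra.linearMap A A' ∘ₗ CoalgebraStruct.counit) using 1
  have h := LinearMap.congr_fun (HopfRep.Comod.counit_comp (k := A) (A := C) (V := V)) m
  simp only [LinearMap.comp_apply, LinearMap.flip_apply, TensorProduct.mk_apply] at h
  simp [sl, LinearMap.lTensor_comp, h]

omit [Module.Projective A' (A' ⊗[A] C)] in
theorem gen_le (M : Submodule A V) {W : Submodule A V}
    (hW : HopfRep.IsSubcomod (k := A) (A := C) W) (hM : M ≤ W) : gen C A' M ≤ W := by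
  intro v hv
  rw [gen, mem_hull] at hv
  refine mem_of_one_tmul_mem A' W ((Submodule.span_le.mpr ?_) hv)
  rintro _ ⟨φ, _, ⟨m, hm, rfl⟩, rfl⟩
  exact sl_mem_baseChange A' φ W (hW m (hM hm))

theorem isSubcomod_gen (M : Submodule A V) : HopfRep.IsSubcomod (k := A) (A := C) (gen C A' M) := by
  intro u hu
  rw [gen, mem_hull] at hu
  refine mem_range_rTensor_hull A' _ _ fun ψ => ?_
  have h : act A' ψ ((1 : A') ⊗ₜ[A] u) ∈ content A' (M.map (HopfRep.Comod.coact (k := A) (A := C))) := by
    generalize (1 : A') ⊗ₜ[A] u = z at hu ⊢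
    induction hu using Submodule.span_induction with
    | mem w hw =>
      obtain ⟨φ, _, ⟨m, hm, rfl⟩, rfl⟩ := hw
      rw [act_sl]
      exact sl_mem_content A' (Submodule.mem_map_of_mem hm) _
    | zero => rw [map_zero]; exact Submodule.zero_mem _
    | add a b _ _ ha hb => rw [map_add]; exact Submodule.add_mem _ ha hb
    | smul c a _ ha => rw [map_smul]; exact Submodule.smul_mem _ _ ha
  simpa using h

theorem fg_gen (M : Submodule A V) (hM : M.FG) : (gen C A' M).FG := by
  classical
  obtain ⟨s, hs⟩ := Module.projective_def'.mp ‹Module.Projective A' (A' ⊗[A] C)›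
  obtain ⟨S, hS⟩ := hM
  set X := M.map (HopfRep.Comod.coact (k := A) (A := C)) with hX
  let T : Finset (A' ⊗[A] V) := S.biUnion fun m =>
    (coords A' s (HopfRep.Comod.coact (k := A) (A := C) m)).support.image
      (coords A' s (HopfRep.Comod.coact (k := A) (A := C) m))
  have hgen : content A' X = Submodule.span A' (T : Set (A' ⊗[A] V)) := by
    apply le_antisymm
    · refine Submodule.span_le.mpr ?_
      rintro _ ⟨φ, _, ⟨m, hm, rfl⟩, rfl⟩
      rw [← hS] at hm
      induction hm using Submodule.span_induction with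
      | mem y hy =>
        let B : A' ⊗[A] C →ₗ[A] A' ⊗[A] V →ₗ[A] A' ⊗[A] V :=
          (Algebra.lsmul A A (A' ⊗[A] V)).toLinearMap ∘ₗ
            (LinearMap.mul' A A' ∘ₗ φ.lTensor A')
        have hbal : ∀ (f : A' ⊗[A] C) (a : A') (v : V), B f (a ⊗ₜ v) = B (a • f) (1 ⊗ₜ v) := by
          intro f a v
          induction f using TensorProduct.induction_on with
          | zero => simp
          | tmul b d => simp [B, TensorProduct.smul_tmul', smul_eq_mul, mul_comm, mul_assoc,
              mul_left_comm]
          | add p q hp hq => simp only [smul_add, map_add, LinearMap.add_apply, hp, hq]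
        have hkey : ∀ z : V ⊗[A] C, Finsupp.lsum A (fun f => B f) (coords A' s z) = sl A' φ z := by
          intro z
          rw [sum_coords A' s hs _ hbal]
          induction z using TensorProduct.induction_on with
          | zero => simp
          | tmul v c => simp [B, TensorProduct.smul_tmul']
          | add p q hp hq => simp only [map_add, hp, hq]
        rw [SetLike.mem_coe, ← hkey, Finsupp.lsum_apply, Finsupp.sum]
        refine Submodule.sum_mem _ fun f hf => Submodule.smul_mem _ _ (Submodule.subset_span ?_)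
        exact Finset.mem_coe.mpr (Finset.mem_biUnion.mpr ⟨y, hy, Finset.mem_image_of_mem _ hf⟩)
      | zero => simp
      | add a b _ _ ha hb => rw [map_add, map_add]; exact Submodule.add_mem _ ha hb
      | smul c a _ ha =>
        rw [map_smul, map_smul]
        exact Submodule.smul_of_tower_mem _ c ha
    · refine Submodule.span_le.mpr ?_
      intro w hw
      obtain ⟨m, hm, hw⟩ := Finset.mem_biUnion.mp hw
      obtain ⟨f, _, rfl⟩ := Finset.mem_image.mp hw
      rw [SetLike.mem_coe, coords_apply]
      exact sl_mem_content A' (Submodule.mem_map_of_mem (hS ▸ Submodule.subset_span hm)) _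
  have hfg : ((hull A' X).baseChange A').FG := by
    rw [baseChange_hull, hgen]; exact ⟨T, rfl⟩
  have hinj : Function.Injective ((hull A' X).subtype.baseChange A') :=
    Module.Flat.lTensor_preserves_injective_linearMap (M := A') _ (hull A' X).injective_subtype
  have : Module.Finite A' (LinearMap.range ((hull A' X).subtype.baseChange A')) :=
    Module.Finite.iff_fg.mpr hfg
  have : Module.Finite A' (A' ⊗[A] hull A' X) :=
    Module.Finite.equiv (LinearEquiv.ofInjective _ hinj).symm
  exact Module.Finite.iff_fg.mp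
    (Module.Finite.of_finite_tensorProduct_of_faithfullyFlat A' : Module.Finite A (hull A' X))

end Comodule

end Groth.Agent.SubcomodGenLib
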